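import Mathlib

/-!
# Project REE, block LA (helper18): definitions

`laHom ι K : GL ι K →* Module.End K (ι → K)` (the endomorphism of an invertible matrix) and the
predicate `LaSplit f p`: the space splits as `ker (f - 1) ⊕ ker p(f)` with dimensions
`1 + deg p`, `p` irreducible.
-/

set_option autoImplicit false

namespace Cfsg.Agent.Lib.helper7.REE

open Polynomial

/-- the endomorphism `x ↦ g *ᵥ x` of `ι → K` given by an invertible matrix `g`, as a monoid hom
(`laHom ι K g = Matrix.toLin' ↑g`, see `laHom_apply`). -/
noncomputable def laHom (ι : Type*) [Fintype ι] [DecidableEq ι] (K : Type*) [Field K] :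
    GL ι K →* Module.End K (ι → K) :=
  ((Matrix.toLinAlgEquiv' : Matrix ι ι K ≃ₐ[K] Module.End K (ι → K)) :
    Matrix ι ι K →* Module.End K (ι → K)).comp (Units.coeHom (Matrix ι ι K))

theorem laHom_apply {ι : Type*} [Fintype ι] [DecidableEq ι] {K : Type*} [Field K] (g : GL ι K) :
    laHom ι K g = Matrix.toLin' (g : Matrix ι ι K) := rfl

theorem laHom_injective (ι : Type*) [Fintype ι] [DecidableEq ι] (K : Type*) [Field K] :
    Function.Injective (laHom ι K) := by
  intro a b h
  apply Units.ext
  exact (Matrix.toLinAlgEquiv' : Matrix ι ι K ≃ₐ[K] Module.End K (ι → K)).injective h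

/-- `V = ker (f - 1) ⊕ ker p(f)`, of dimensions `1` and `deg p`, with `p` irreducible. -/
structure LaSplit {F : Type*} [Field F] {V : Type*} [AddCommGroup V] [Module F V]
    (f : Module.End F V) (p : F[X]) : Prop where
  irr : Irreducible p
  one : Module.finrank F (LinearMap.ker (f - 1)) = 1
  deg : Module.finrank F (LinearMap.ker (aeval f p)) = p.natDegree
  compl : IsCompl (LinearMap.ker (f - 1)) (LinearMap.ker (aeval f p))

end Cfsg.Agent.Lib.helper7.REE
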